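import Groth.Agent.S10724
import Groth.Agent.S10727
import Groth.Agent.S2005
import Mathlib.RingTheory.RingHom.Etale

/-!
# Glueing etale algebras along a glueing pair
-/

universe u

open TensorProduct

namespace Groth.Agent.AlgSpEN.GlueHom

variable {R R' : Type u} [CommRing R] [CommRing R'] [Algebra R R'] {f : R}

/-- The base of a glueing pair is glueable. -/
theorem isGlueable_base (h : EtGlue.IsGlueingPair R R' f) : EtGlue.IsGlueable R R' f R := by
  refine ((Groth.Agent.S2005.result R R' f h.1 R).2 h).2 fun m hm h0 => ?_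
  obtain ⟨n, hn⟩ := hm
  have h1 : algebraMap R R' m = 0 := by
    simpa [Algebra.smul_def] using congrArg (TensorProduct.rid R R') h0
  refine h.2.1 (a₂ := 0) (Prod.ext (by simpa using h1) ?_)
  change algebraMap R (Localization.Away f) m = algebraMap R (Localization.Away f) 0
  rw [map_zero, IsLocalization.map_eq_zero_iff (Submonoid.powers f)]
  exact ⟨⟨f ^ n, n, rfl⟩, by simpa [smul_eq_mul] using hn⟩

/-- Glueing etale algebras. -/
theorem exists_glued_etale (h : EtGlue.IsGlueingPair R R' f) (A₁ : Type u) [CommRing A₁] [Algebra R A₁]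
    (h₁ : IsUnit (algebraMap R A₁ f)) (A' : Type u) [CommRing A'] [Algebra R A'] [Algebra R' A']
    [IsScalarTower R R' A'] (φ : Localization.Away (algebraMap R A' f) ≃ₐ[R'] R' ⊗[R] A₁)
    (he₁ : (IsLocalization.Away.lift f h₁ : Localization.Away f →+* A₁).Etale)
    (he' : (algebraMap R' A').Etale) :
    ∃ (B : Type u) (_ : CommRing B) (_ : Algebra R B) (pg : B →ₐ[R] A₁) (px : B →ₐ[R] A'),
      (algebraMap R B).Etale ∧ (∀ b b', pg b = pg b' → px b = px b' → b = b') ∧
      (∀ {C : Type u} [CommRing C] (y₁ : C →+* A₁) (y' : C →+* A'),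
        (∀ c, φ (algebraMap A' _ (y' c)) = (1 : R') ⊗ₜ[R] y₁ c) →
          ∃ β : C →+* B, pg.toRingHom.comp β = y₁ ∧ px.toRingHom.comp β = y') ∧
      (∀ (C : Type u) [CommRing C] [Algebra R C] (v : B →ₐ[R] C), IsUnit (algebraMap R C f) →
        ∃ θ : A₁ →ₐ[R] C, θ.comp pg = v) ∧
      (∀ (C : Type u) [CommRing C] [Algebra R C] (v : B →ₐ[R] C) (u : R' →ₐ[R] C),
        ∃ θ : A' →ₐ[R] C, θ.comp px = v ∧ θ.comp (IsScalarTower.toAlgHom R R' A') = u) := by
  obtain ⟨B, _, _, hB, e₁, e', he⟩ := Groth.Agent.S10727.result R R' f h A₁ h₁ A' φ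
  let pg : B →ₐ[R] A₁ := e₁.toAlgHom.comp (IsScalarTower.toAlgHom R B _)
  let px : B →ₐ[R] A' := (e'.restrictScalars R).toAlgHom.comp Algebra.TensorProduct.includeRight
  have hcompat : ∀ b, φ (algebraMap A' _ (px b)) = (1 : R') ⊗ₜ[R] pg b := he
  have hinj : ∀ b b' : B, pg b = pg b' → px b = px b' → b = b' := by
    intro b b' hb hb'
    refine hB.1 (Prod.ext (e'.injective hb') ?_)
    obtain ⟨c, hc⟩ := IsLocalization.exists_of_eq (M := Submonoid.powers (algebraMap R B f)) (e₁.injective hb)
    obtain ⟨k, hk⟩ := c.2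
    refine LocalizedModule.mk_eq.2 ⟨⟨f ^ k, k, rfl⟩, ?_⟩
    simpa [Submonoid.smul_def, Algebra.smul_def, ← hk, map_pow] using hc
  refine ⟨B, inferInstance, inferInstance, pg, px, ?_, hinj, ?_, ?_, ?_⟩
  · refine (Groth.Agent.S10724.result R R' f h R B (isGlueable_base h) hB (Algebra.ofId R B)).2 ⟨?_, ?_⟩
    · let ι : Localization.Away f ≃+* Localization.Away (algebraMap R R f) := RingEquiv.refl _
      have e : Localization.awayMap (Algebra.ofId R B).toRingHom (algebraMap R R f) =
          e₁.symm.toRingEquiv.toRingHom.comp ((IsLocalization.Away.lift f h₁).comp ι.symm.toRingHom) := by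
        refine IsLocalization.ringHom_ext (Submonoid.powers (algebraMap R R f)) (RingHom.ext fun r => ?_)
        have h2 : (IsLocalization.Away.lift f h₁ : Localization.Away f →+* A₁) (algebraMap R _ r) = algebraMap R A₁ r :=
          IsLocalization.Away.lift_eq _ h₁ r
        simp only [RingHom.comp_apply, Localization.awayMap, IsLocalization.Away.map, IsLocalization.map_eq]
        change algebraMap B _ (algebraMap R B r) = e₁.symm ((IsLocalization.Away.lift f h₁) (algebraMap R _ r))
        refine Eq.trans ?_ (congrArg e₁.symm h2.symm)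
        rw [AlgEquiv.commutes, ← IsScalarTower.algebraMap_apply]
      rw [e]
      refine RingHom.Etale.respectsIso.1 _ e₁.symm.toRingEquiv ?_
      exact RingHom.Etale.respectsIso.2 _ ι.symm he₁
    · have e : (Algebra.TensorProduct.map (AlgHom.id R R') (Algebra.ofId R B)).toRingHom =
          e'.symm.toRingEquiv.toRingHom.comp
            ((algebraMap R' A').comp (Algebra.TensorProduct.rid R R' R').toRingEquiv.toRingHom) := by
        refine Algebra.TensorProduct.ringHom_ext (RingHom.ext fun a => ?_) (RingHom.ext fun r => ?_)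
        · simp [Algebra.TensorProduct.algebraMap_apply]
        · simp only [RingHom.comp_apply, AlgHom.toRingHom_eq_coe, AlgEquiv.toRingEquiv_eq_coe]
          have e1 : ((Algebra.TensorProduct.rid R R' R') (1 ⊗ₜ[R] r)) = algebraMap R R' r := by
            simp [Algebra.algebraMap_eq_smul_one]
          change (Algebra.TensorProduct.map (AlgHom.id R R') (Algebra.ofId R B)) ((1 : R') ⊗ₜ[R] r) =
            e'.symm (algebraMap R' A' ((Algebra.TensorProduct.rid R R' R') (1 ⊗ₜ[R] r)))
          rw [e1, AlgEquiv.commutes, Algebra.TensorProduct.map_tmul, Algebra.TensorProduct.algebraMap_apply,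
            Algebra.algebraMap_self, RingHom.id_apply, AlgHom.id_apply, Algebra.ofId_apply,
            Algebra.algebraMap_eq_smul_one, Algebra.algebraMap_eq_smul_one, TensorProduct.smul_tmul]
      rw [e]
      exact RingHom.Etale.respectsIso.1 _ e'.symm.toRingEquiv
        (RingHom.Etale.respectsIso.2 _ (Algebra.TensorProduct.rid R R' R').toRingEquiv he')
  · intro C _ y₁ y' hy
    have hex : ∀ c, ∃ b : B, pg b = y₁ c ∧ px b = y' c := by
      intro c
      obtain ⟨⟨b₀, s⟩, hs⟩ := IsLocalization.surj (Submonoid.powers (algebraMap R B f)) (e₁.symm (y₁ c))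
      obtain ⟨n, hn⟩ := s.2
      have hb₀ : pg b₀ = algebraMap R A₁ f ^ n * y₁ c := by
        change e₁ (algebraMap B _ b₀) = _
        rw [← hs, map_mul, AlgEquiv.apply_symm_apply, ← hn, map_pow, ← IsScalarTower.algebraMap_apply, map_pow,
          AlgEquiv.commutes, mul_comm]
      have h2 : algebraMap A' (Localization.Away (algebraMap R A' f)) (algebraMap R A' (f ^ n) * y' c) =
          algebraMap A' _ (px b₀) := by
        refine φ.injective ?_
        rw [hcompat, hb₀, map_mul, map_mul, hy, ← map_pow]
        have : φ (algebraMap A' (Localization.Away (algebraMap R A' f)) (algebraMap R A' (f ^ n))) =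
            (1 : R') ⊗ₜ[R] algebraMap R A₁ (f ^ n) := by
          rw [← IsScalarTower.algebraMap_apply R A' (Localization.Away (algebraMap R A' f))]
          exact ((φ.restrictScalars R).commutes _).trans
            ((Algebra.TensorProduct.includeRight : A₁ →ₐ[R] R' ⊗[R] A₁).commutes _).symm
        rw [this, Algebra.TensorProduct.tmul_mul_tmul, one_mul]
      obtain ⟨d, hd⟩ := IsLocalization.exists_of_eq (M := Submonoid.powers (algebraMap R A' f)) h2
      obtain ⟨m, hm⟩ := d.2
      let x := e'.symm (y' c)
      have hx : f ^ (n + m) • x = (1 : R') ⊗ₜ[R] (f ^ m • b₀) := by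
        refine (e'.restrictScalars R).injective ?_
        change (e'.restrictScalars R) (f ^ (n + m) • e'.symm (y' c)) = (e'.restrictScalars R) ((1 : R') ⊗ₜ[R] (f ^ m • b₀))
        rw [TensorProduct.tmul_smul, map_smul, map_smul]
        change f ^ (n + m) • e' (e'.symm (y' c)) = f ^ m • px b₀
        rw [AlgEquiv.apply_symm_apply, Algebra.smul_def, Algebra.smul_def, pow_add, map_mul]
        rw [← hm] at hd
        simp only [map_pow] at hd ⊢
        linear_combination hd
      obtain ⟨b, hb, hb'⟩ := hB.2 x (LocalizedModule.mk (f ^ m • b₀) ⟨f ^ (n + m), n + m, rfl⟩) (by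
        rw [EtGlue.tensorOfLoc, IsLocalizedModule.map_LocalizedModules, TensorProduct.mk_apply, ← hx]
        exact (LocalizedModule.mk_cancel (⟨f ^ (n + m), n + m, rfl⟩ : Submonoid.powers f) x).symm)
      refine ⟨b, ?_, ?_⟩
      · obtain ⟨⟨_, k, rfl⟩, hk⟩ := LocalizedModule.mk_eq.1 hb'
        simp only [Submonoid.smul_def, Algebra.smul_def, map_one, one_mul, OneMemClass.coe_one] at hk
        have := congrArg pg hk
        simp only [map_mul, AlgHom.commutes, map_pow, hb₀] at this
        refine ((h₁.pow k).mul (h₁.pow (n + m))).mul_left_cancel ?_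
        rw [pow_add]
        linear_combination this
      · change e' ((1 : R') ⊗ₜ[R] b) = y' c
        rw [hb, AlgEquiv.apply_symm_apply]
    choose β h1 h2 using hex
    refine ⟨{ toFun := β, map_one' := ?_, map_mul' := ?_, map_zero' := ?_, map_add' := ?_ },
      RingHom.ext h1, RingHom.ext h2⟩
    all_goals intros
    all_goals apply hinj <;> simp [h1, h2]
  · intro C _ _ v hv
    have hv' : IsUnit (v (algebraMap R B f)) := by rwa [AlgHom.commutes]
    let L : Localization.Away (algebraMap R B f) →+* C := IsLocalization.Away.lift (algebraMap R B f) (g := v.toRingHom) hv'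
    have hL : ∀ r : R, L (algebraMap R _ r) = algebraMap R C r := fun r => by
      rw [IsScalarTower.algebraMap_apply R B (Localization.Away (algebraMap R B f))]
      exact (IsLocalization.Away.lift_eq (algebraMap R B f) _ _).trans (v.commutes r)
    let L' : Localization.Away (algebraMap R B f) →ₐ[R] C := { L with commutes' := hL }
    refine ⟨L'.comp e₁.symm.toAlgHom, AlgHom.ext fun b => ?_⟩
    change L (e₁.symm (e₁ (algebraMap B _ b))) = _
    rw [AlgEquiv.symm_apply_apply]
    exact IsLocalization.Away.lift_eq _ _ b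
  · intro C _ _ v u
    let L : R' ⊗[R] B →ₐ[R] C := Algebra.TensorProduct.lift u v fun _ _ => Commute.all _ _
    refine ⟨L.comp (e'.restrictScalars R).symm.toAlgHom, AlgHom.ext fun b => ?_, AlgHom.ext fun r => ?_⟩
    · change L (e'.symm (e' ((1 : R') ⊗ₜ[R] b))) = _
      rw [AlgEquiv.symm_apply_apply, Algebra.TensorProduct.lift_tmul, map_one, one_mul]
    · change L (e'.symm (algebraMap R' A' r)) = _
      rw [AlgEquiv.commutes, Algebra.TensorProduct.algebraMap_apply, Algebra.algebraMap_self, RingHom.id_apply,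
        Algebra.TensorProduct.lift_tmul, map_one, mul_one]

end Groth.Agent.AlgSpEN.GlueHom
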