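import Groth.Agent.AlgSpEN.GlueHom.Local
import Mathlib.AlgebraicGeometry.Pullbacks

/-!
# Glueing morphisms from an affine scheme
-/

set_option autoImplicit false
set_option backward.isDefEq.respectTransparency false
set_option backward.isDefEq.respectTransparency.types false

universe u

open CategoryTheory CategoryTheory.Limits AlgebraicGeometry TensorProduct
open AlgSp
open Groth.Agent.S10707 (specOver)

namespace Groth.Agent.AlgSpEN.GlueHom

variable {R R' : Type u} [CommRing R] [CommRing R'] [Algebra R R'] {f : R}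
  {Z : Space (Spec (CommRingCat.of R))} {A : Type u} [CommRing A] [Algebra R A]

/-- Morphisms on an affine scheme agreeing on both parts are equal. -/
theorem eq_of_parts (hq : EtGlue.QuotPowBijective R R' f)
    (hG : ∀ (A₁ : Type u) [CommRing A₁] [Algebra R A₁] (ψ : A →ₐ[R] A₁), ψ.toRingHom.Etale →
      EtGlue.IsGlueable R R' f A₁)
    (s t : (yon _).obj (specOver R A) ⟶ Z.obj)
    (hX : (yon _).map (sp (incX R' A)) ≫ s = (yon _).map (sp (incX R' A)) ≫ t)
    (hU : (yon _).map (sp (incU A f)) ≫ s = (yon _).map (sp (incU A f)) ≫ t) : s = t := by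
  refine Groth.Agent.S10707.eq_of_eq_on_parts hq hG s t (fun σ hσ => ?_) (fun σ hσ => ?_)
  · rw [show σ = sp (incX R' A) from Over.OverMorphism.ext hσ]
    exact hX
  · rw [show σ = sp (incU A f) from Over.OverMorphism.ext hσ]
    exact hU

/-- A morphism out of a spectrum is determined on an etale cover of the spectrum. -/
theorem eq_of_etale_cover {D : Type u} [CommRing D] [Algebra R D] (u : A →ₐ[R] D) {ι : Type*}
    (B : ι → Type u) [∀ i, CommRing (B i)] [∀ i, Algebra R (B i)] (φ : ∀ i, A →ₐ[R] B i)
    (he : ∀ i, (φ i).toRingHom.Etale) (hs : ∀ q, ∃ i, q ∈ Set.range (PrimeSpectrum.comap (φ i).toRingHom))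
    (s t : (yon _).obj (specOver R D) ⟶ Z.obj)
    (h : ∀ (i : ι) (D' : Type u) [CommRing D'] [Algebra R D'] (d : D →ₐ[R] D') (v : B i →ₐ[R] D'),
      d.comp u = v.comp (φ i) → (yon _).map (sp d) ≫ s = (yon _).map (sp d) ≫ t) : s = t := by
  classical
  letI := u.toRingHom.toAlgebra
  letI := fun i => (φ i).toRingHom.toAlgebra
  haveI : IsScalarTower R A D := IsScalarTower.of_algebraMap_eq fun r => (u.commutes r).symm
  haveI : ∀ i, IsScalarTower R A (B i) := fun i => IsScalarTower.of_algebraMap_eq fun r => ((φ i).commutes r).symm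
  let d : ∀ i, D →ₐ[R] D ⊗[A] B i := fun i =>
    (Algebra.TensorProduct.includeLeft : D →ₐ[A] D ⊗[A] B i).restrictScalars R
  let v : ∀ i, B i →ₐ[R] D ⊗[A] B i := fun i =>
    (Algebra.TensorProduct.includeRight : B i →ₐ[A] D ⊗[A] B i).restrictScalars R
  have hcomm : ∀ i, (d i).comp u = (v i).comp (φ i) := fun i => AlgHom.ext fun a =>
    ((Algebra.TensorProduct.includeLeft : D →ₐ[A] D ⊗[A] B i).commutes a).trans
      ((Algebra.TensorProduct.includeRight : B i →ₐ[A] D ⊗[A] B i).commutes a).symm
  have hde : ∀ i, Etale (sp (d i)).left := fun i => by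
    have : Algebra.Etale A (B i) := he i
    have : Algebra.Etale D (D ⊗[A] B i) := inferInstance
    exact etale_sp.2 ((RingHom.etale_algebraMap).2 this)
  refine Groth.Agent.AlgSp.InfGlue.hom_ext_cover (U := fun i => specOver R (D ⊗[A] B i)) (fun i => sp (d i)) hde
    (fun P => ?_) s t fun i => h i _ _ _ (hcomm i)
  obtain ⟨i, b, hb⟩ := hs (PrimeSpectrum.comap u.toRingHom (P : PrimeSpectrum D))
  obtain ⟨w, hw, -⟩ := Scheme.Pullback.exists_preimage_pullback
    (f := Spec.map (CommRingCat.ofHom (algebraMap A D))) (g := Spec.map (CommRingCat.ofHom (algebraMap A (B i))))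
    P b hb.symm
  refine ⟨i, (pullbackSpecIso A D (B i)).hom w, ?_⟩
  rw [← hw]
  change Spec.map (CommRingCat.ofHom (algebraMap D (D ⊗[A] B i))) _ = _
  rw [← Scheme.Hom.comp_apply]
  exact congrArg (fun m : _ ⟶ Spec (CommRingCat.of D) => m w) (pullbackSpecIso_hom_fst A D (B i))

set_option maxHeartbeats 1000000 in
/-- Compatible morphisms on the two parts glue. -/
theorem exists_ext (h : EtGlue.IsGlueingPair R R' f) (hZd : IsAffineMor (Limits.diag Z.obj))
    (hG : ∀ (A₁ : Type u) [CommRing A₁] [Algebra R A₁] (ψ : A →ₐ[R] A₁), ψ.toRingHom.Etale →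
      EtGlue.IsGlueable R R' f A₁)
    {sU : (yon _).obj (specOver R (AU A f)) ⟶ Z.obj} {sX : (yon _).obj (specOver R (R' ⊗[R] A)) ⟶ Z.obj}
    (hc : Compat sU sX) :
    ∃ s : (yon _).obj (specOver R A) ⟶ Z.obj,
      (yon _).map (sp (incU A f)) ≫ s = sU ∧ (yon _).map (sp (incX R' A)) ≫ s = sX := by
  classical
  have hA : EtGlue.IsGlueable R R' f A :=
    hG A (AlgHom.id R A) (RingHom.Etale.containsIdentities A)
  choose B cB aB ι sB hι hsur hUB hXB using fun q : PrimeSpectrum A => exists_local h hZd hA hc q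
  have agree : ∀ q q' (D : Type u) [CommRing D] [Algebra R D] (v : B q →ₐ[R] D) (v' : B q' →ₐ[R] D),
      v.comp (ι q) = v'.comp (ι q') → (yon _).map (sp v) ≫ sB q = (yon _).map (sp v') ≫ sB q' := by
    intro q q' D _ _ v v' hv
    letI := fun i => (ι i).toRingHom.toAlgebra
    haveI : ∀ i, IsScalarTower R A (B i) := fun i => IsScalarTower.of_algebraMap_eq fun r => ((ι i).commutes r).symm
    haveI : ∀ i, Algebra.Etale A (B i) := fun i => hι i
    let C := B q ⊗[A] B q'
    let c : B q →ₐ[R] C := (Algebra.TensorProduct.includeLeft : B q →ₐ[A] C).restrictScalars R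
    let c' : B q' →ₐ[R] C := (Algebra.TensorProduct.includeRight : B q' →ₐ[A] C).restrictScalars R
    let jA : A →ₐ[R] C := IsScalarTower.toAlgHom R A C
    have hcc : c.comp (ι q) = jA := AlgHom.ext fun a =>
      (Algebra.TensorProduct.includeLeft : B q →ₐ[A] C).commutes a
    have hcc' : c'.comp (ι q') = jA := AlgHom.ext fun a =>
      (Algebra.TensorProduct.includeRight : B q' →ₐ[A] C).commutes a
    have hCe : Algebra.Etale A C := Algebra.Etale.comp A (B q) C
    have hje : jA.toRingHom.Etale := (RingHom.etale_algebraMap).2 hCe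
    have key : (yon _).map (sp c) ≫ sB q = (yon _).map (sp c') ≫ sB q' := by
      refine eq_of_parts h.1 (fun A₁ _ _ ψ hψ => hG A₁ (ψ.comp jA) (RingHom.Etale.stableUnderComposition _ _ hje hψ))
        _ _ ?_ ?_
      · let x : R' ⊗[R] A →ₐ[R] R' ⊗[R] C := Algebra.TensorProduct.map (AlgHom.id R R') jA
        have hx : x.comp (incX R' A) = (incX R' C).comp jA := AlgHom.ext fun a => by simp [x]
        rw [← Category.assoc, ← Category.assoc, ← Functor.map_comp, ← Functor.map_comp, ← sp_comp, ← sp_comp,
          hXB q _ x _ (by rw [hx, AlgHom.comp_assoc, hcc]), hXB q' _ x _ (by rw [hx, AlgHom.comp_assoc, hcc'])]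
      · have hu : IsUnit (((incU C f).comp jA) (algebraMap R A f)) := by
          rw [AlgHom.commutes, IsScalarTower.algebraMap_apply R C (AU C f)]
          exact IsLocalization.Away.algebraMap_isUnit _
        let u : AU A f →ₐ[R] AU C f := IsLocalization.liftAlgHom (M := Submonoid.powers (algebraMap R A f))
          (f := (incU C f).comp jA) (fun y => by
            obtain ⟨_, n, rfl⟩ := y
            rw [map_pow]
            exact hu.pow n)
        have hu' : u.comp (incU A f) = (incU C f).comp jA := AlgHom.ext fun a => IsLocalization.lift_eq _ _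
        rw [← Category.assoc, ← Category.assoc, ← Functor.map_comp, ← Functor.map_comp, ← sp_comp, ← sp_comp,
          hUB q _ u _ (by rw [hu', AlgHom.comp_assoc, hcc]), hUB q' _ u _ (by rw [hu', AlgHom.comp_assoc, hcc'])]
    letI := (v.comp (ι q)).toRingHom.toAlgebra
    haveI : IsScalarTower R A D := IsScalarTower.of_algebraMap_eq fun r => ((v.comp (ι q)).commutes r).symm
    let vA : B q →ₐ[A] D := { v.toRingHom with commutes' := fun _ => rfl }
    let vA' : B q' →ₐ[A] D := { v'.toRingHom with commutes' := fun a => (AlgHom.congr_fun hv a).symm }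
    let L : C →ₐ[R] D := (Algebra.TensorProduct.lift vA vA' fun _ _ => Commute.all _ _).restrictScalars R
    have e : L.comp c = v := AlgHom.ext fun b => by
      exact (Algebra.TensorProduct.lift_tmul vA vA' (fun _ _ => Commute.all _ _) b 1).trans (by rw [map_one, mul_one]; rfl)
    have e' : L.comp c' = v' := AlgHom.ext fun b => by
      exact (Algebra.TensorProduct.lift_tmul vA vA' (fun _ _ => Commute.all _ _) 1 b).trans (by rw [map_one, one_mul]; rfl)
    rw [← e, ← e', sp_comp, sp_comp, Functor.map_comp, Functor.map_comp, Category.assoc, Category.assoc, key]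
  obtain ⟨s, hs⟩ := Groth.Agent.AlgSp.InfGlue.exists_glue (U := fun q => specOver R (B q)) (fun q => sp (ι q))
    (fun q => etale_sp.2 (hι q)) (fun P => ⟨P, hsur P⟩) sB (by
      intro q q' W a b w
      choose Bx cBx aBx ix bx hix hbx using fun x : W.left => Groth.Agent.S10706.exists_affine_nhd W x
      refine Groth.Agent.AlgSp.InfGlue.hom_ext_cover (U := fun x => specOver R (Bx x)) ix
        (fun x => ?_) (fun x => ⟨x, bx x, hbx x⟩) _ _ (fun x => ?_)
      · have := hix x
        infer_instance
      · obtain ⟨v, hv⟩ := exists_eq_sp (ix x ≫ a)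
        obtain ⟨v', hv'⟩ := exists_eq_sp (ix x ≫ b)
        rw [← Category.assoc, ← Category.assoc, ← Functor.map_comp, ← Functor.map_comp, ← hv, ← hv']
        refine agree q q' _ v v' (sp_injective ?_)
        rw [sp_comp, sp_comp, hv, hv', Category.assoc, Category.assoc, w])
  refine ⟨s, ?_, ?_⟩
  · refine eq_of_etale_cover (incU A f) B ι hι (fun q => ⟨q, hsur q⟩) _ _ fun q D' _ _ d v hdv => ?_
    rw [← Category.assoc, ← Functor.map_comp, ← sp_comp, hdv, sp_comp, Functor.map_comp, Category.assoc, hs q,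
      hUB q D' d v hdv]
  · refine eq_of_etale_cover (incX R' A) B ι hι (fun q => ⟨q, hsur q⟩) _ _ fun q D' _ _ d v hdv => ?_
    rw [← Category.assoc, ← Functor.map_comp, ← sp_comp, hdv, sp_comp, Functor.map_comp, Category.assoc, hs q,
      hXB q D' d v hdv]

end Groth.Agent.AlgSpEN.GlueHom
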