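import Groth.Agent.AlgSpEN.GlueHom.Sp
import Groth.Agent.AlgSpEN.GlueHom.Algebra

/-!
# Morphisms from affine schemes glue along glueing pairs
-/

set_option autoImplicit false
set_option backward.isDefEq.respectTransparency false
set_option backward.isDefEq.respectTransparency.types false

universe u

open CategoryTheory CategoryTheory.Limits AlgebraicGeometry TensorProduct
open AlgSp
open Groth.Agent.S10707 (specOver)

namespace Groth.Agent.AlgSpEN.GlueHom

variable {R R' : Type u} [CommRing R] [CommRing R'] [Algebra R R'] {f : R}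
  {Z : Space (Spec (CommRingCat.of R))} {A : Type u} [CommRing A] [Algebra R A]

/-- The first part of an affine scheme for a glueing pair. -/
abbrev AU (A : Type u) [CommRing A] [Algebra R A] (f : R) : Type u := Localization.Away (algebraMap R A f)

/-- The map to the first part. -/
noncomputable abbrev incU (A : Type u) [CommRing A] [Algebra R A] (f : R) : A →ₐ[R] AU A f :=
  IsScalarTower.toAlgHom R A _

/-- The map to the second part. -/
noncomputable abbrev incX (R' : Type u) [CommRing R'] [Algebra R R'] (A : Type u) [CommRing A] [Algebra R A] :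
    A →ₐ[R] R' ⊗[R] A :=
  Algebra.TensorProduct.includeRight

/-- Compatible morphisms on the two parts. -/
def Compat (sU : (yon _).obj (specOver R (AU A f)) ⟶ Z.obj) (sX : (yon _).obj (specOver R (R' ⊗[R] A)) ⟶ Z.obj) :
    Prop :=
  ∀ (D : Type u) [CommRing D] [Algebra R D] (u : AU A f →ₐ[R] D) (x : R' ⊗[R] A →ₐ[R] D),
    u.comp (incU A f) = x.comp (incX R' A) → (yon _).map (sp u) ≫ sU = (yon _).map (sp x) ≫ sX

set_option maxHeartbeats 1000000 in
/-- The key step: an etale neighbourhood over which compatible morphisms glue. -/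
theorem exists_local (h : EtGlue.IsGlueingPair R R' f) (hZd : IsAffineMor (Limits.diag Z.obj))
    (hA : EtGlue.IsGlueable R R' f A) {sU : (yon _).obj (specOver R (AU A f)) ⟶ Z.obj}
    {sX : (yon _).obj (specOver R (R' ⊗[R] A)) ⟶ Z.obj} (hc : Compat sU sX) (q : PrimeSpectrum A) :
    ∃ (B : Type u) (_ : CommRing B) (_ : Algebra R B) (ι : A →ₐ[R] B) (s : (yon _).obj (specOver R B) ⟶ Z.obj),
      ι.toRingHom.Etale ∧ q ∈ Set.range (PrimeSpectrum.comap ι.toRingHom) ∧
      (∀ (D : Type u) [CommRing D] [Algebra R D] (u : AU A f →ₐ[R] D) (v : B →ₐ[R] D),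
        u.comp (incU A f) = v.comp ι → (yon _).map (sp v) ≫ s = (yon _).map (sp u) ≫ sU) ∧
      ∀ (D : Type u) [CommRing D] [Algebra R D] (x : R' ⊗[R] A →ₐ[R] D) (v : B →ₐ[R] D),
        x.comp (incX R' A) = v.comp ι → (yon _).map (sp v) ≫ s = (yon _).map (sp x) ≫ sX := by
  classical
  let A' := R' ⊗[R] A
  let _ : Algebra A A' := Algebra.TensorProduct.rightAlgebra
  let g := algebraMap R A f
  have hpair : EtGlue.IsGlueingPair A A' g :=
    Groth.Agent.EtGlueLib.isGlueingPair_of_isGlueable h A A' hA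
  -- a chart through the image of `q`
  obtain ⟨z, hz⟩ : ∃ z : Points Z.obj,
      (∃ P : (specOver R (AU A f)).left, PrimeSpectrum.comap (incU A f).toRingHom P = q ∧ Points.ofPt sU P = z) ∨
      (∃ P : (specOver R A').left, PrimeSpectrum.comap (incX R' A).toRingHom P = q ∧ Points.ofPt sX P = z) := by
    rcases Groth.Agent.AlgSpEN.exists_prime_over (A := A) h.1 q with ⟨P, hP⟩ | ⟨P, hP⟩
    · exact ⟨_, Or.inr ⟨P, hP, rfl⟩⟩
    · exact ⟨_, Or.inl ⟨P, hP, rfl⟩⟩
  obtain ⟨B₀, _, _, b, w₀, hb, hw₀⟩ := exists_chart z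
  obtain ⟨A₁, _, _, ψU, qU, heU, sqU, hunivU⟩ := exists_affine_pullback hZd sU b hb
  obtain ⟨A₂, _, _, ψX, qX, heX, sqX, hunivX⟩ := exists_affine_pullback hZd sX b hb
  let _ : Algebra A A₁ := ((ψU.comp (incU A f)).toRingHom).toAlgebra
  have : IsScalarTower R A A₁ := IsScalarTower.of_algebraMap_eq fun r => ((ψU.comp (incU A f)).commutes r).symm
  let _ : Algebra A A₂ := ((ψX.comp (incX R' A)).toRingHom).toAlgebra
  have : IsScalarTower R A A₂ := IsScalarTower.of_algebraMap_eq fun r => ((ψX.comp (incX R' A)).commutes r).symm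
  let _ : Algebra A' A₂ := ψX.toRingHom.toAlgebra
  have : IsScalarTower A A' A₂ := IsScalarTower.of_algebraMap_eq fun a => rfl
  have : IsScalarTower R A' A₂ := IsScalarTower.of_algebraMap_eq fun r => (ψX.commutes r).symm
  have hg₁ : IsUnit (algebraMap A A₁ g) := (IsLocalization.Away.algebraMap_isUnit g).map ψU
  have hloc : ∀ {D : Type u} [CommRing D] [Algebra R D] (u u' : AU A f →ₐ[R] D),
      u.comp (incU A f) = u'.comp (incU A f) → u = u' := fun u u' e =>
    AlgHom.coe_ringHom_injective (IsLocalization.ringHom_ext (Submonoid.powers g)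
      (RingHom.ext fun a => AlgHom.congr_fun e a))
  -- the two rings over the overlap
  let X2 := A' ⊗[A] A₁
  let iL : A' →ₐ[R] X2 := (Algebra.TensorProduct.includeLeft : A' →ₐ[A] X2).restrictScalars R
  let iR : A₁ →ₐ[R] X2 := (Algebra.TensorProduct.includeRight : A₁ →ₐ[A] X2).restrictScalars R
  have hiLR : iL.comp (incX R' A) = iR.comp (ψU.comp (incU A f)) := AlgHom.ext fun a =>
    ((Algebra.TensorProduct.includeLeft : A' →ₐ[A] X2).commutes a).trans
      ((Algebra.TensorProduct.includeRight : A₁ →ₐ[A] X2).commutes a).symm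
  have hw₁ : (yon _).map (sp iL) ≫ sX = (yon _).map (sp (iR.comp qU)) ≫ b := by
    rw [← hc X2 (iR.comp ψU) iL (by rw [AlgHom.comp_assoc, hiLR]), sp_comp, sp_comp, Functor.map_comp,
      Functor.map_comp, Category.assoc, Category.assoc, sqU.w]
  obtain ⟨ψ1, ⟨hψ1, hψ1'⟩, -⟩ := hunivX X2 iL (iR.comp qU) hw₁
  have hg2 : IsUnit (ψ1 (algebraMap A A₂ g)) := by
    have e : ψ1 (algebraMap A A₂ g) = iR (algebraMap A A₁ g) :=
      (AlgHom.congr_fun hψ1 (incX R' A g)).trans (AlgHom.congr_fun hiLR g)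
    rw [e]
    exact hg₁.map iR
  let L1 : Localization.Away (algebraMap A A₂ g) →+* X2 :=
    IsLocalization.Away.lift (algebraMap A A₂ g) (g := ψ1.toRingHom) hg2
  have hL1 : ∀ x, L1 (algebraMap A₂ _ x) = ψ1 x := fun x => IsLocalization.Away.lift_eq _ _ x
  let Y := Localization.Away (algebraMap A A₂ g)
  let uY : AU A f →ₐ[R] Y :=
    (IsLocalization.liftAlgHom (M := Submonoid.powers g) (f := IsScalarTower.toAlgHom A A Y) (fun y => by
      obtain ⟨_, n, rfl⟩ := y
      rw [map_pow]
      refine IsUnit.pow n ?_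
      change IsUnit (algebraMap A Y g)
      rw [IsScalarTower.algebraMap_apply A A₂ Y]
      exact IsLocalization.Away.algebraMap_isUnit _) : AU A f →ₐ[A] Y).restrictScalars R
  let lY : A₂ →ₐ[R] Y := (IsScalarTower.toAlgHom A A₂ Y).restrictScalars R
  have huY : uY.comp (incU A f) = (lY.comp ψX).comp (incX R' A) := AlgHom.ext fun a => by
    change uY (algebraMap A _ a) = lY (algebraMap A A₂ a)
    simp only [uY, lY, AlgHom.restrictScalars_apply, AlgHom.commutes]
  have hw₂ : (yon _).map (sp uY) ≫ sU = (yon _).map (sp (lY.comp qX)) ≫ b := by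
    rw [hc Y uY (lY.comp ψX) huY, sp_comp, sp_comp, Functor.map_comp, Functor.map_comp, Category.assoc,
      Category.assoc, sqX.w]
  obtain ⟨ψ2, ⟨hψ2, hψ2'⟩, -⟩ := hunivU Y uY (lY.comp qX) hw₂
  have hψ2c : ∀ a : A, ψ2 (ψU (incU A f a)) = algebraMap A Y a := fun a => by
    rw [← AlgHom.comp_apply ψ2 ψU, hψ2, ← AlgHom.comp_apply, huY]
    exact (IsScalarTower.algebraMap_apply A A₂ Y a).symm
  let ψ2A : A₁ →ₐ[A] Y := { ψ2.toRingHom with commutes' := hψ2c }
  let L2 : X2 →ₐ[A'] Y := Algebra.TensorProduct.lift (Algebra.ofId A' Y) ψ2A fun _ _ => Commute.all _ _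
  have hL2L : ∀ a', L2 (iL a') = lY (ψX a') := fun a' => by
    change L2 (a' ⊗ₜ[A] (1 : A₁)) = _
    rw [Algebra.TensorProduct.lift_tmul, map_one, mul_one, Algebra.ofId_apply]
    exact IsScalarTower.algebraMap_apply A' A₂ Y a'
  have hL2R : ∀ a₁, L2 (iR a₁) = ψ2 a₁ := fun a₁ => by
    change L2 ((1 : A') ⊗ₜ[A] a₁) = _
    rw [Algebra.TensorProduct.lift_tmul, map_one, one_mul]
    rfl
  have hL1c : ∀ a' : A', L1 (algebraMap A' Y a') = algebraMap A' X2 a' := fun a' => by
    rw [IsScalarTower.algebraMap_apply A' A₂ Y, hL1]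
    exact (AlgHom.congr_fun hψ1 a').trans rfl
  let L1A : Y →ₐ[A'] X2 := { L1 with commutes' := hL1c }
  have h21 : L2.comp L1A = AlgHom.id A' Y := by
    let M : A₂ →ₐ[R] Y := (L2.restrictScalars R).comp ψ1
    have e : M = lY := by
      obtain ⟨θ, -, hθ⟩ := hunivX Y (lY.comp ψX) (lY.comp qX) (by
        rw [sp_comp, sp_comp, Functor.map_comp, Functor.map_comp, Category.assoc, Category.assoc, sqX.w])
      refine (hθ M ⟨?_, ?_⟩).trans (hθ lY ⟨rfl, rfl⟩).symm
      · rw [AlgHom.comp_assoc, hψ1]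
        exact AlgHom.ext hL2L
      · rw [AlgHom.comp_assoc, hψ1', ← AlgHom.comp_assoc]
        exact (congrArg (fun m => AlgHom.comp m qU) (AlgHom.ext hL2R)).trans hψ2'
    apply AlgHom.coe_ringHom_injective
    refine IsLocalization.ringHom_ext (Submonoid.powers (algebraMap A A₂ g)) (RingHom.ext fun x => ?_)
    change L2 (L1 (algebraMap A₂ Y x)) = algebraMap A₂ Y x
    rw [hL1]
    exact AlgHom.congr_fun e x
  have h12 : L1A.comp L2 = AlgHom.id A' X2 := by
    refine Algebra.TensorProduct.ext (Subsingleton.elim _ _) (AlgHom.ext fun a₁ => ?_)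
    let M : A₁ →ₐ[R] X2 := (L1A.restrictScalars R).comp ψ2
    have e : M = iR := by
      obtain ⟨θ, -, hθ⟩ := hunivU X2 (iR.comp ψU) (iR.comp qU) (by
        rw [sp_comp, sp_comp, Functor.map_comp, Functor.map_comp, Category.assoc, Category.assoc, sqU.w])
      refine (hθ M ⟨?_, ?_⟩).trans (hθ iR ⟨rfl, rfl⟩).symm
      · refine hloc _ _ ?_
        rw [AlgHom.comp_assoc, AlgHom.comp_assoc, AlgHom.comp_assoc, ← AlgHom.comp_assoc ψ2, hψ2, huY,
          AlgHom.comp_assoc lY, ← hiLR, ← AlgHom.comp_assoc, ← AlgHom.comp_assoc]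
        refine congrArg (fun m => AlgHom.comp m (incX R' A)) (AlgHom.ext fun a' => ?_)
        exact (hL1 (ψX a')).trans (AlgHom.congr_fun hψ1 a')
      · rw [AlgHom.comp_assoc, hψ2', ← hψ1', ← AlgHom.comp_assoc]
        exact congrArg (fun m => AlgHom.comp m qX) (AlgHom.ext hL1)
    change L1 (L2 (iR a₁)) = iR a₁
    rw [hL2R]
    exact AlgHom.congr_fun e a₁
  let φ : Y ≃ₐ[A'] X2 := AlgEquiv.ofAlgHom L1A L2 h12 h21
  -- the glued algebra
  have he₁ : (IsLocalization.Away.lift g hg₁ : AU A f →+* A₁).Etale := by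
    convert heU using 1
    exact IsLocalization.ringHom_ext (Submonoid.powers g) (RingHom.ext fun a => IsLocalization.Away.lift_eq (S := AU A f) g hg₁ a)
  obtain ⟨B, _, _, pg, px, het, hinj, hpairs, hθU, hθX⟩ := exists_glued_etale hpair A₁ hg₁ A₂ φ he₁ heX
  let _ : Algebra R B := ((algebraMap A B).comp (algebraMap R A)).toAlgebra
  have : IsScalarTower R A B := IsScalarTower.of_algebraMap_eq' rfl
  obtain ⟨β, hβ₁, hβ₂⟩ := hpairs qU.toRingHom qX.toRingHom (fun c => (hL1 (qX c)).trans (AlgHom.congr_fun hψ1' c))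
  have hβc : ∀ r : R, β (algebraMap R B₀ r) = algebraMap R B r := fun r => hinj _ _
    ((RingHom.congr_fun hβ₁ (algebraMap R B₀ r)).trans ((qU.commutes r).trans ((pg.restrictScalars R).commutes r).symm))
    ((RingHom.congr_fun hβ₂ (algebraMap R B₀ r)).trans ((qX.commutes r).trans ((px.restrictScalars R).commutes r).symm))
  let βA : B₀ →ₐ[R] B := { β with commutes' := hβc }
  let ι : A →ₐ[R] B := IsScalarTower.toAlgHom R A B
  have hpgβ : (pg.restrictScalars R).comp βA = qU := AlgHom.coe_ringHom_injective hβ₁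
  have hpxβ : (px.restrictScalars R).comp βA = qX := AlgHom.coe_ringHom_injective hβ₂
  refine ⟨B, inferInstance, inferInstance, ι, (yon _).map (sp βA) ≫ b, het, ?_, ?_, ?_⟩
  · rcases hz with ⟨P, hP, hPz⟩ | ⟨P, hP, hPz⟩
    · obtain ⟨p, hp, -⟩ := (Groth.Agent.AlgSpB.ofPt_eq_ofPt_iff sqU P w₀).1 (hPz.trans hw₀.symm)
      refine ⟨PrimeSpectrum.comap pg.toRingHom p, ?_⟩
      rw [← hP, ← hp]
      change PrimeSpectrum.comap _ _ = PrimeSpectrum.comap _ (PrimeSpectrum.comap ψU.toRingHom p)
      refine (PrimeSpectrum.comap_comp_apply ι.toRingHom pg.toRingHom p).symm.trans ?_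
      refine Eq.trans ?_ (PrimeSpectrum.comap_comp_apply (incU A f).toRingHom ψU.toRingHom p)
      congr 1
      exact pg.comp_algebraMap
    · obtain ⟨p, hp, -⟩ := (Groth.Agent.AlgSpB.ofPt_eq_ofPt_iff sqX P w₀).1 (hPz.trans hw₀.symm)
      refine ⟨PrimeSpectrum.comap px.toRingHom p, ?_⟩
      rw [← hP, ← hp]
      change PrimeSpectrum.comap _ _ = PrimeSpectrum.comap _ (PrimeSpectrum.comap ψX.toRingHom p)
      refine (PrimeSpectrum.comap_comp_apply ι.toRingHom px.toRingHom p).symm.trans ?_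
      refine Eq.trans ?_ (PrimeSpectrum.comap_comp_apply (incX R' A).toRingHom ψX.toRingHom p)
      congr 1
      exact px.comp_algebraMap
  · intro D _ _ u v huv
    let _ : Algebra A D := (v.comp ι).toRingHom.toAlgebra
    have : IsScalarTower R A D := IsScalarTower.of_algebraMap_eq fun r => ((v.comp ι).commutes r).symm
    let vA : B →ₐ[A] D := { v.toRingHom with commutes' := fun _ => rfl }
    have hu : IsUnit (algebraMap A D g) := by
      have : algebraMap A D g = u (incU A f g) := (AlgHom.congr_fun huv g).symm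
      rw [this]
      exact (IsLocalization.Away.algebraMap_isUnit g).map u
    obtain ⟨θ, hθ⟩ := hθU D vA hu
    have hθψ : (θ.restrictScalars R).comp ψU = u := hloc _ _ (by
      rw [huv]
      exact AlgHom.ext fun a => θ.commutes a)
    have hθq : (θ.restrictScalars R).comp qU = v.comp βA := by
      rw [← hpgβ, ← AlgHom.comp_assoc]
      exact congrArg (fun m => AlgHom.comp m βA) (AlgHom.ext fun x => AlgHom.congr_fun hθ x)
    rw [← Category.assoc, ← Functor.map_comp, ← sp_comp, ← hθq, ← hθψ, sp_comp, sp_comp, Functor.map_comp,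
      Functor.map_comp, Category.assoc, Category.assoc, sqU.w]
  · intro D _ _ x v hxv
    let _ : Algebra A D := (v.comp ι).toRingHom.toAlgebra
    have : IsScalarTower R A D := IsScalarTower.of_algebraMap_eq fun r => ((v.comp ι).commutes r).symm
    let vA : B →ₐ[A] D := { v.toRingHom with commutes' := fun _ => rfl }
    let xA : A' →ₐ[A] D := { x.toRingHom with commutes' := fun a => AlgHom.congr_fun hxv a }
    obtain ⟨θ, hθ, hθ'⟩ := hθX D vA xA
    have hθψ : (θ.restrictScalars R).comp ψX = x := AlgHom.ext fun x => AlgHom.congr_fun hθ' x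
    have hθq : (θ.restrictScalars R).comp qX = v.comp βA := by
      rw [← hpxβ, ← AlgHom.comp_assoc]
      exact congrArg (fun m => AlgHom.comp m βA) (AlgHom.ext fun x => AlgHom.congr_fun hθ x)
    rw [← Category.assoc, ← Functor.map_comp, ← sp_comp, ← hθq, ← hθψ, sp_comp, sp_comp, Functor.map_comp,
      Functor.map_comp, Category.assoc, Category.assoc, sqX.w]

end Groth.Agent.AlgSpEN.GlueHom
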