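import Groth.Agent.S10707
import Groth.Agent.S10706
import Groth.Agent.AlgSpB.Points
import Groth.Agent.AlgSp.QCMor
import Groth.Agent.AlgSp.InfGlue

/-!
# Spectra over an affine base, as functor points
-/

set_option autoImplicit false
set_option backward.isDefEq.respectTransparency false
set_option backward.isDefEq.respectTransparency.types false

universe u

open CategoryTheory CategoryTheory.Limits AlgebraicGeometry TensorProduct
open AlgSp
open Groth.Agent.S10707 (specOver)

namespace Groth.Agent.AlgSpEN.GlueHom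


variable {R : Type u} [CommRing R]

/-- The map of spectra of an algebra map. -/
noncomputable def sp {A B : Type u} [CommRing A] [CommRing B] [Algebra R A] [Algebra R B] (φ : A →ₐ[R] B) :
    specOver R B ⟶ specOver R A :=
  Over.homMk (Spec.map (CommRingCat.ofHom φ.toRingHom)) (by
    change _ ≫ Spec.map _ = Spec.map _
    rw [← Spec.map_comp]
    exact congrArg Spec.map (CommRingCat.hom_ext (AlgHom.comp_algebraMap φ)))

theorem sp_left {A B : Type u} [CommRing A] [CommRing B] [Algebra R A] [Algebra R B] (φ : A →ₐ[R] B) :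
    (sp φ).left = Spec.map (CommRingCat.ofHom φ.toRingHom) := rfl

theorem sp_comp {A B C : Type u} [CommRing A] [CommRing B] [CommRing C] [Algebra R A] [Algebra R B]
    [Algebra R C] (φ : A →ₐ[R] B) (ψ : B →ₐ[R] C) : sp (ψ.comp φ) = sp ψ ≫ sp φ :=
  Over.OverMorphism.ext (by rw [Over.comp_left, sp_left, sp_left, sp_left, ← Spec.map_comp]; rfl)

theorem sp_injective {A B : Type u} [CommRing A] [CommRing B] [Algebra R A] [Algebra R B] {φ ψ : A →ₐ[R] B}
    (h : sp φ = sp ψ) : φ = ψ :=
  AlgHom.coe_ringHom_injective (congrArg CommRingCat.Hom.hom (Spec.map_injective (congrArg Over.Hom.left h)))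

theorem exists_eq_sp {A B : Type u} [CommRing A] [CommRing B] [Algebra R A] [Algebra R B]
    (g : specOver R B ⟶ specOver R A) : ∃ φ : A →ₐ[R] B, sp φ = g := by
  obtain ⟨φ, hφ⟩ := Groth.Agent.S10706.exists_algHom g
  exact ⟨φ, Over.OverMorphism.ext hφ⟩

theorem etale_sp {A B : Type u} [CommRing A] [CommRing B] [Algebra R A] [Algebra R B] {φ : A →ₐ[R] B} :
    Etale (sp φ).left ↔ φ.toRingHom.Etale :=
  HasRingHomProperty.Spec_iff (P := @Etale)

variable {Z : Space (Spec (CommRingCat.of R))}

/-- Fibre products of affines over a space with affine diagonal are affine. -/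
theorem exists_affine_pullback (hZd : IsAffineMor (Limits.diag Z.obj)) {A B : Type u} [CommRing A] [CommRing B]
    [Algebra R A] [Algebra R B] (a : (yon _).obj (specOver R A) ⟶ Z.obj) (b : (yon _).obj (specOver R B) ⟶ Z.obj)
    (hb : RepWith @Etale b) :
    ∃ (C : Type u) (_ : CommRing C) (_ : Algebra R C) (p₁ : A →ₐ[R] C) (p₂ : B →ₐ[R] C),
      p₁.toRingHom.Etale ∧
      IsPullback ((yon _).map (sp p₁)) ((yon _).map (sp p₂)) a b ∧
      ∀ (D : Type u) [CommRing D] [Algebra R D] (θ₁ : A →ₐ[R] D) (θ₂ : B →ₐ[R] D),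
        (yon _).map (sp θ₁) ≫ a = (yon _).map (sp θ₂) ≫ b →
          ∃! θ : C →ₐ[R] D, θ.comp p₁ = θ₁ ∧ θ.comp p₂ = θ₂ := by
  obtain ⟨W, fst, snd, sq⟩ := Groth.Agent.AlgSpB.exists_pullback_yon hb.1 a
  have hsnd : Etale snd.left := hb.2 _ _ _ sq
  have sq' := sq.flip
  have hW : IsAffine W.left := by
    let P : Over (Spec (CommRingCat.of R)) := specOver R A ⨯ specOver R B
    have : IsAffine P.left := by
      have : IsAffine (specOver R A).left := inferInstanceAs (IsAffine (Spec _))
      have : IsAffine (specOver R B).left := inferInstanceAs (IsAffine (Spec _))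
      have : IsAffineHom (specOver R B).hom := inferInstance
      have : IsAffineHom (pullback.fst (specOver R A).hom (specOver R B).hom) := inferInstance
      have := isAffine_of_isAffineHom (pullback.fst (specOver R A).hom (specOver R B).hom)
      have : IsAffine (pullback (specOver R A).hom (specOver R B).hom) := inferInstance
      exact IsAffine.of_isIso (Over.prodLeftIsoPullback (specOver R A) (specOver R B)).hom
    let e := prodComparison (yon (Spec (CommRingCat.of R))) (specOver R A) (specOver R B)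
    have sd := Groth.Agent.AlgSp.isPullback_lift_diag sq'
    obtain ⟨V, i, fst', sV, hV⟩ := hZd (Z := P) ‹IsAffine P.left› (e ≫ prod.map a b)
    have s2 : IsPullback ((yon _).map snd ≫ a) ((yon _).map (prod.lift snd fst : W ⟶ P)) (Limits.diag Z.obj)
        (e ≫ prod.map a b) := by
      refine sd.of_iso (Iso.refl _) (Iso.refl _) (asIso e).symm (Iso.refl _) (by simp) ?_ (by simp) (by simp)
      simp only [Iso.refl_hom, Category.id_comp, Iso.symm_hom, asIso_inv, IsIso.comp_inv_eq, e]
      apply prod.hom_ext <;> simp [prodComparison_fst, prodComparison_snd, ← Functor.map_comp]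
    obtain ⟨i', hi'⟩ : ∃ i' : W ⟶ V, IsIso i' := by
      exact ⟨((yon _).preimageIso (s2.isoIsPullback _ _ sV)).hom, inferInstance⟩
    have : IsIso i'.left := inferInstanceAs (IsIso ((Over.forget _).map i'))
    exact IsAffine.of_isIso i'.left
  obtain ⟨χ, hχ⟩ := Spec.map_surjective (W.left.isoSpec.inv ≫ W.hom)
  let _ : Algebra R Γ(W.left, ⊤) := χ.hom.toAlgebra
  let i : specOver R Γ(W.left, ⊤) ≅ W := Over.isoMk W.left.isoSpec.symm hχ.symm
  obtain ⟨p₁, hp₁⟩ := exists_eq_sp (i.hom ≫ snd)
  obtain ⟨p₂, hp₂⟩ := exists_eq_sp (i.hom ≫ fst)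
  have sq'' : IsPullback ((yon _).map (sp p₁)) ((yon _).map (sp p₂)) a b := by
    refine sq'.of_iso ((yon _).mapIso i.symm) (Iso.refl _) (Iso.refl _) (Iso.refl _) ?_ ?_ (by simp) (by simp)
    · simp [hp₁, ← Functor.map_comp]
    · simp [hp₂, ← Functor.map_comp]
  refine ⟨Γ(W.left, ⊤), inferInstance, inferInstance, p₁, p₂, ?_, sq'', fun D _ _ θ₁ θ₂ w => ?_⟩
  · rw [← etale_sp, hp₁]
    exact inferInstanceAs (Etale (i.hom.left ≫ snd.left))
  · obtain ⟨l, hl⟩ := (yon _).map_surjective (sq''.lift _ _ w)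
    obtain ⟨θ, rfl⟩ := exists_eq_sp l
    refine ⟨θ, ⟨sp_injective ?_, sp_injective ?_⟩, fun θ' hθ' => sp_injective ((yon _).map_injective ?_)⟩
    · exact (yon _).map_injective (by rw [sp_comp, Functor.map_comp, hl, sq''.lift_fst])
    · exact (yon _).map_injective (by rw [sp_comp, Functor.map_comp, hl, sq''.lift_snd])
    · rw [hl]
      apply sq''.hom_ext
      · rw [sq''.lift_fst, ← Functor.map_comp, ← sp_comp, hθ'.1]
      · rw [sq''.lift_snd, ← Functor.map_comp, ← sp_comp, hθ'.2]

/-- Every point of a space lies in an affine etale chart. -/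
theorem exists_chart (z : Points Z.obj) :
    ∃ (B : Type u) (_ : CommRing B) (_ : Algebra R B) (b : (yon _).obj (specOver R B) ⟶ Z.obj)
      (w : (specOver R B).left), RepWith @Etale b ∧ Points.ofPt b w = z := by
  obtain ⟨U, p, hp, hs⟩ := Z.property.atlas
  obtain ⟨x, rfl⟩ := Groth.Agent.AlgSpB.surjective_ofPt hs z
  obtain ⟨B, _, _, i, w, hi, hw⟩ := Groth.Agent.S10706.exists_affine_nhd U x
  exact ⟨B, inferInstance, inferInstance, (yon _).map i ≫ p, w, Groth.Agent.AlgSpB.repWith_etale_map_comp i hp,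
    (Groth.Agent.AlgSpB.ofPt_map_comp i p w).trans (congrArg _ hw)⟩

end Groth.Agent.AlgSpEN.GlueHom
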